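import Groth.Agent.ASp.AffineRing
import Mathlib
/-!
A flat map with trivial equalizer: comparison of flat algebras after base change along it.
-/

set_option autoImplicit false

universe u

open TensorProduct

namespace Groth.Agent.FlatMono

variable {A B : Type u} [CommRing A] [CommRing B] [Algebra A B]

theorem tmul_one_injective (hinj : Function.Injective (algebraMap A B)) (E : Type u) [CommRing E] [Algebra A E]
    [Module.Flat A E] : Function.Injective (fun e : E => (1 : B) ⊗ₜ[A] e) :=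
  Algebra.TensorProduct.includeRight_injective hinj

variable (heq : ∀ b : B, b ⊗ₜ[A] (1 : B) = (1 : B) ⊗ₜ[A] b → b ∈ (algebraMap A B).range)

include heq in
theorem exists_one_tmul {E : Type u} [CommRing E] [Algebra A E] [Module.Flat A E] (y : B ⊗[A] E)
    (h : Algebra.TensorProduct.map (Algebra.TensorProduct.includeLeft : B →ₐ[A] B ⊗[A] B) (AlgHom.id A E) y =
      Algebra.TensorProduct.map (Algebra.TensorProduct.includeRight : B →ₐ[A] B ⊗[A] B) (AlgHom.id A E) y) :
    ∃ e : E, (1 : B) ⊗ₜ e = y := by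
  let c := Algebra.TensorProduct.comm A B E
  let c' := Algebra.TensorProduct.comm A (B ⊗[A] B) E
  have hc : ∀ (i : B →ₐ[A] B ⊗[A] B) (y : B ⊗[A] E), Algebra.TensorProduct.map (AlgHom.id A E) i (c y) =
      c' (Algebra.TensorProduct.map i (AlgHom.id A E) y) := fun i y => by
    induction y with
    | zero => simp
    | tmul b e => simp [c, c']
    | add x y hx hy => simp [hx, hy]
  obtain ⟨z, hz⟩ := Groth.Agent.ASp.exists_map_equalizer (O' := E) _ _
    (x := c y) ((hc _ y).trans ((congrArg c' h).trans (hc _ y).symm))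
  have key : ∀ z : E ⊗[A] (AlgHom.equalizer (Algebra.TensorProduct.includeLeft : B →ₐ[A] B ⊗[A] B)
      (Algebra.TensorProduct.includeRight : B →ₐ[A] B ⊗[A] B)), ∃ e : E, c ((1 : B) ⊗ₜ e) =
        Algebra.TensorProduct.map (AlgHom.id A E) (AlgHom.equalizer _ _).val z := fun z => by
    induction z with
    | zero => exact ⟨0, by simp⟩
    | tmul e b =>
      obtain ⟨a, ha⟩ := heq b.1 b.2
      refine ⟨a • e, ?_⟩
      simp only [Algebra.TensorProduct.map_tmul, AlgHom.coe_id, id_eq, Subalgebra.coe_val, c,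
        Algebra.TensorProduct.comm_tmul, ← ha, Algebra.algebraMap_eq_smul_one, TensorProduct.smul_tmul]
    | add x y hx hy =>
      obtain ⟨e, he⟩ := hx
      obtain ⟨e', he'⟩ := hy
      exact ⟨e + e', by rw [TensorProduct.tmul_add, map_add, he, he', map_add]⟩
  obtain ⟨e, he⟩ := key z
  exact ⟨e, c.injective (he.trans hz)⟩

theorem smul_eq_zero_of_map_eq_zero {T E E' : Type u} [AddCommGroup T] [Module A T] [Module.Flat A T]
    [AddCommGroup E] [Module A E] [AddCommGroup E'] [Module A E'] (φ : E →ₗ[A] E') {M : Submonoid A}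
    (hk : ∀ e, φ e = 0 → ∃ s ∈ M, s • e = 0) {z : T ⊗[A] E} (hz : φ.lTensor T z = 0) :
    ∃ s ∈ M, s • z = 0 := by
  obtain ⟨w, rfl⟩ := (Module.Flat.lTensor_exact T φ.exact_subtype_ker_map z).1 hz
  clear hz
  induction w with
  | zero => exact ⟨1, M.one_mem, by simp⟩
  | tmul t k =>
    obtain ⟨s, hs, h⟩ := hk k.1 k.2
    refine ⟨s, hs, ?_⟩
    rw [LinearMap.lTensor_tmul, ← TensorProduct.tmul_smul]
    exact (congrArg (t ⊗ₜ[A] ·) h).trans (TensorProduct.tmul_zero E t)
  | add x y hx hy =>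
    obtain ⟨s, hs, h⟩ := hx
    obtain ⟨s', hs', h'⟩ := hy
    refine ⟨s * s', M.mul_mem hs hs', ?_⟩
    rw [map_add, smul_add, mul_smul, mul_smul, h', smul_zero, smul_comm, h, smul_zero, add_zero]

variable (hinj : Function.Injective (algebraMap A B))

include heq hinj in
/-- A map of flat algebras which is bijective up to a multiplicative set, and surjective with finitely generated
kernel after base change, is bijective up to one element. -/
theorem exists_smul_bijective [Module.Flat A B] {E E' : Type u} [CommRing E] [Algebra A E] [Module.Flat A E]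
    [CommRing E'] [Algebra A E'] [Module.Flat A E'] [Algebra.FinitePresentation B (B ⊗[A] E)]
    [Algebra.FinitePresentation B (B ⊗[A] E')] (φ : E →ₐ[A] E') {M : Submonoid A}
    (hk : ∀ e, φ e = 0 → ∃ s ∈ M, s • e = 0)
    (hsurj : Function.Surjective (Algebra.TensorProduct.map (AlgHom.id B B) φ)) :
    ∃ s ∈ M, (∀ e, φ e = 0 → s • e = 0) ∧ ∀ x, ∃ e, φ e = s • x := by
  set ψ := Algebra.TensorProduct.map (AlgHom.id B B) φ
  have hψl : ∀ z, ψ z = φ.toLinearMap.lTensor B z := fun z => by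
    induction z with
    | zero => simp
    | tmul b e => simp [ψ]
    | add x y hx hy => simp [hx, hy]
  obtain ⟨T, hT⟩ := Algebra.FinitePresentation.ker_fG_of_surjective ψ hsurj
  have h : ∀ t : T, ∃ s ∈ M, s • (t : B ⊗[A] E) = 0 := fun t =>
    smul_eq_zero_of_map_eq_zero φ.toLinearMap hk (by
      rw [← hψl]; exact RingHom.mem_ker.1 (hT ▸ Ideal.subset_span t.2))
  choose σ hσM hσ using h
  refine ⟨∏ t, σ t, M.prod_mem fun t _ => hσM t, ?_⟩
  have hker : ∀ z, ψ z = 0 → (∏ t, σ t) • z = 0 := fun z hz => by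
    have hz' : z ∈ Ideal.span (T : Set (B ⊗[A] E)) := hT.symm ▸ hz
    induction hz' using Submodule.span_induction with
    | mem x hx =>
      obtain ⟨c, hc⟩ := Finset.dvd_prod_of_mem σ (Finset.mem_univ (⟨x, hx⟩ : T))
      rw [hc, mul_comm, mul_smul, hσ ⟨x, hx⟩, smul_zero]
    | zero => simp
    | add x y hx' hy' hx hy =>
      rw [smul_add, hx (RingHom.mem_ker.1 (hT ▸ hx')), hy (RingHom.mem_ker.1 (hT ▸ hy')), add_zero]
    | smul r x hx' hx => rw [smul_comm, hx (RingHom.mem_ker.1 (hT ▸ hx')), smul_zero]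
  have hkφ : ∀ e, φ e = 0 → (∏ t, σ t) • e = 0 := fun e he => by
    apply tmul_one_injective hinj E
    show (1 : B) ⊗ₜ[A] ((∏ t, σ t) • e) = (1 : B) ⊗ₜ[A] (0 : E)
    rw [TensorProduct.tmul_smul, TensorProduct.tmul_zero]
    exact hker _ (by simp [ψ, he])
  refine ⟨hkφ, fun x => ?_⟩
  obtain ⟨y, hy⟩ := hsurj (1 ⊗ₜ x)
  set d := Algebra.TensorProduct.map (Algebra.TensorProduct.includeLeft : B →ₐ[A] B ⊗[A] B) (AlgHom.id A E) y -
    Algebra.TensorProduct.map (Algebra.TensorProduct.includeRight : B →ₐ[A] B ⊗[A] B) (AlgHom.id A E) y with hd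
  have hd0 : φ.toLinearMap.lTensor (B ⊗[A] B) d = 0 := by
    have hcomm : ∀ (i : B →ₐ[A] B ⊗[A] B) z,
        φ.toLinearMap.lTensor (B ⊗[A] B) (Algebra.TensorProduct.map i (AlgHom.id A E) z) =
          Algebra.TensorProduct.map i (AlgHom.id A E') (ψ z) := fun i z => by
      induction z with
      | zero => simp
      | tmul b e => simp [ψ]
      | add x y hx hy => simp [hx, hy]
    rw [hd, map_sub, hcomm, hcomm, hy, sub_eq_zero]
    simp [Algebra.TensorProduct.one_def]
  have hs0 : (∏ t, σ t) • d = 0 := by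
    obtain ⟨w, hw⟩ := (Module.Flat.lTensor_exact (B ⊗[A] B) φ.toLinearMap.exact_subtype_ker_map d).1 hd0
    rw [← hw]
    clear hw
    induction w with
    | zero => simp
    | tmul t k =>
      rw [LinearMap.lTensor_tmul, ← TensorProduct.tmul_smul]
      exact (congrArg (t ⊗ₜ[A] ·) (hkφ k.1 k.2)).trans (TensorProduct.tmul_zero E t)
    | add x y hx hy => rw [map_add, smul_add, hx, hy, add_zero]
  obtain ⟨e, he⟩ := exists_one_tmul heq ((∏ t, σ t) • y) (by
    rw [map_smul, map_smul]; rw [hd, smul_sub, sub_eq_zero] at hs0; exact hs0)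
  refine ⟨e, tmul_one_injective hinj E' ?_⟩
  show (1 : B) ⊗ₜ[A] φ e = (1 : B) ⊗ₜ[A] ((∏ t, σ t) • x)
  rw [TensorProduct.tmul_smul, ← hy, ← AlgHom.map_smul_of_tower ψ, ← he]
  simp [ψ]

end Groth.Agent.FlatMono
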