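import Groth.Agent.FlatMono.Equalizer
import Groth.Agent.ProEtLib2.LocColimit
/-!
A flat map with trivial equalizer and etale base change along itself is etale.
-/

set_option autoImplicit false
set_option backward.isDefEq.respectTransparency false
set_option backward.isDefEq.respectTransparency.types false

universe u

open TensorProduct CategoryTheory

namespace Groth.Agent.FlatMono

variable {A B : Type u} [CommRing A] [CommRing B] [Algebra A B]

/-- The localization of `B` at an element of `A`. -/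
abbrev Bw (B : Type u) [CommRing B] [Algebra A B] (w : A) : Type u := Localization.Away (algebraMap A B w)

theorem isUnit_algebraMap_Bw (w : A) : IsUnit (algebraMap A (Bw B w) w) := by
  rw [IsScalarTower.algebraMap_apply A B (Bw B w)]
  exact IsLocalization.Away.algebraMap_isUnit _

theorem finitePresentation_tensor_Bw [Algebra.FinitePresentation B (B ⊗[A] B)] (w : A) :
    Algebra.FinitePresentation B (B ⊗[A] Bw B w) := by
  haveI : IsLocalization (Submonoid.powers (algebraMap A B w)) (B ⊗[A] Localization.Away w) := by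
    have : IsLocalization (Algebra.algebraMapSubmonoid B (Submonoid.powers w)) (B ⊗[A] Localization.Away w) :=
      inferInstance
    rwa [Algebra.algebraMapSubmonoid_powers] at this
  let e : Bw B w ≃ₐ[A] B ⊗[A] Localization.Away w :=
    (IsLocalization.algEquiv (Submonoid.powers (algebraMap A B w)) _ _).restrictScalars A
  let e' : (B ⊗[A] B) ⊗[A] Localization.Away w ≃ₐ[B] B ⊗[A] Bw B w :=
    (Algebra.TensorProduct.assoc A A B B B (Localization.Away w)).trans
      (Algebra.TensorProduct.congr AlgEquiv.refl e.symm)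
  haveI : Algebra.FinitePresentation A (Localization.Away w) := IsLocalization.Away.finitePresentation w
  haveI : Algebra.FinitePresentation B ((B ⊗[A] B) ⊗[A] Localization.Away w) :=
    Algebra.FinitePresentation.trans B (B ⊗[A] B) _
  exact Algebra.FinitePresentation.equiv e'

/-- Lifting an algebra map into a localization to a finite stage. -/
theorem exists_lift_away {E : Type u} [CommRing E] [Algebra A E] [Algebra.FinitePresentation A E]
    (M : Submonoid A) {L : Type u} [CommRing L] [Algebra A L] [Algebra B L] [IsScalarTower A B L]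
    [IsLocalization (Algebra.algebraMapSubmonoid B M) L] (σ : E →ₐ[A] L) :
    ∃ g ∈ M, ∃ (τ : E →ₐ[A] Bw B g) (ι : Bw B g →ₐ[B] L), ∀ e, ι (τ e) = σ e := by
  have hu : ∀ (s : A), s ∈ M → IsUnit (algebraMap B L (algebraMap A B s)) := fun s hs =>
    IsLocalization.map_units L (⟨_, ⟨s, hs, rfl⟩⟩ : Algebra.algebraMapSubmonoid B M)
  let ι : ∀ g, g ∈ M → (Bw B g →ₐ[B] L) := fun g hg => IsLocalization.liftAlgHom (M := Submonoid.powers (algebraMap A B g))
    (f := Algebra.ofId B L) (by rintro ⟨_, k, rfl⟩; simpa using (hu g hg).pow k)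
  obtain ⟨n, π, hπ, T, hT⟩ := Algebra.FinitePresentation.out (R := A) (A := E)
  have h : ∀ i, ∃ (b : B) (s : A), s ∈ M ∧ σ (π (MvPolynomial.X i)) * algebraMap A L s = algebraMap B L b := fun i => by
    obtain ⟨⟨b, ⟨_, s, hs, rfl⟩⟩, hb⟩ :=
      IsLocalization.surj (Algebra.algebraMapSubmonoid B M) (σ (π (MvPolynomial.X i)))
    exact ⟨b, s, hs, by rw [IsScalarTower.algebraMap_apply A B L]; exact hb⟩
  choose b s hs hb using h
  let g := ∏ i, s i
  have hg : g ∈ M := M.prod_mem fun i _ => hs i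
  have hsu : ∀ i, IsUnit (algebraMap A (Bw B g) (s i)) := fun i =>
    isUnit_of_dvd_unit (map_dvd _ (Finset.dvd_prod_of_mem s (Finset.mem_univ i))) (isUnit_algebraMap_Bw g)
  let θ : MvPolynomial (Fin n) A →ₐ[A] Bw B g :=
    MvPolynomial.aeval fun i => algebraMap B (Bw B g) (b i) * ↑(hsu i).unit⁻¹
  have hθ : ∀ r, ι g hg (θ r) = σ (π r) := fun r => by
    suffices ((ι g hg).restrictScalars A).comp θ = σ.comp π from AlgHom.congr_fun this r
    refine MvPolynomial.algHom_ext fun i => ?_
    have hu' := (hu (s i) (hs i))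
    rw [← IsScalarTower.algebraMap_apply A B L] at hu'
    refine hu'.mul_right_cancel ?_
    change ι g hg (θ (MvPolynomial.X i)) * _ = σ (π (MvPolynomial.X i)) * _
    rw [hb]
    conv_lhs => rw [← ((ι g hg).restrictScalars A).commutes, AlgHom.restrictScalars_apply, ← map_mul]
    simp [θ, mul_assoc]
  have h2 : ∀ r : T, ∃ t ∈ M, t • θ r = 0 := fun r => by
    have h0 : ι g hg (θ r) = 0 := by
      rw [hθ, show π (r : MvPolynomial (Fin n) A) = 0 from RingHom.mem_ker.1 (hT ▸ Ideal.subset_span r.2), map_zero]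
    obtain ⟨⟨c, ⟨_, k, rfl⟩⟩, hc⟩ := IsLocalization.surj (Submonoid.powers (algebraMap A B g)) (θ r)
    have h1 : algebraMap B L c = 0 := by
      rw [← (ι g hg).commutes, ← hc, map_mul, h0, zero_mul]
    obtain ⟨⟨_, t, ht, rfl⟩, hm⟩ := (IsLocalization.map_eq_zero_iff (Algebra.algebraMapSubmonoid B M) L c).1 h1
    refine ⟨t, ht, ((IsLocalization.map_units (Bw B g) (⟨_, k, rfl⟩ : Submonoid.powers (algebraMap A B g)))).mul_right_cancel ?_⟩
    rw [zero_mul, Algebra.smul_def, mul_assoc, hc, IsScalarTower.algebraMap_apply A B (Bw B g), ← map_mul]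
    exact (congrArg _ hm).trans (map_zero _)
  choose t ht ht0 using h2
  let g' := g * ∏ r, t r
  have hg' : g' ∈ M := M.mul_mem hg (M.prod_mem fun r _ => ht r)
  let tr : Bw B g →ₐ[B] Bw B g' := IsLocalization.liftAlgHom (M := Submonoid.powers (algebraMap A B g))
    (f := Algebra.ofId B (Bw B g')) (by
      rintro ⟨_, k, rfl⟩
      have : IsUnit (algebraMap B (Bw B g') (algebraMap A B g)) :=
        isUnit_of_dvd_unit (map_dvd (algebraMap B (Bw B g')) (map_dvd (algebraMap A B) (dvd_mul_right g (∏ r, t r)))) (IsLocalization.Away.algebraMap_isUnit _)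
      simpa using this.pow k)
  have htr : ∀ x, ι g' hg' (tr x) = ι g hg x := fun x =>
    congrArg (fun f : Bw B g →ₐ[B] L => f x)
      (IsLocalization.algHom_ext (f := (ι g' hg').comp tr) (g := ι g hg) (Submonoid.powers (algebraMap A B g))
        (AlgHom.ext fun x => (AlgHom.commutes _ x).trans (AlgHom.commutes _ x).symm))
  let θ' := (tr.restrictScalars A).comp θ
  have hker : RingHom.ker π.toRingHom ≤ RingHom.ker θ'.toRingHom := by
    rw [← hT]
    refine Ideal.span_le.2 fun r hr => ?_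
    have hu2 : IsUnit (algebraMap A (Bw B g') (t ⟨r, hr⟩)) := isUnit_of_dvd_unit
      (map_dvd _ ((Finset.dvd_prod_of_mem t (Finset.mem_univ _)).mul_left g)) (isUnit_algebraMap_Bw g')
    refine hu2.mul_right_eq_zero.1 ?_
    change algebraMap A _ (t ⟨r, hr⟩) * tr (θ r) = 0
    rw [← Algebra.smul_def]
    exact (tr.toLinearMap.map_smul_of_tower (t ⟨r, hr⟩) (θ r)).symm.trans ((congrArg tr (ht0 ⟨r, hr⟩)).trans (map_zero _))
  let τ : E →ₐ[A] Bw B g' := AlgHom.liftOfSurjective π hπ θ' hker
  refine ⟨g', hg', τ, ι g' hg', fun e => ?_⟩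
  obtain ⟨r, rfl⟩ := hπ e
  rw [show τ (π r) = θ' r from AlgHom.liftOfSurjective_apply π hπ θ' hker r]
  change ι g' hg' (tr (θ r)) = _
  rw [htr, hθ]

section Stalk

variable (q : Ideal B) [q.IsPrime]

/-- The fibre of a flat map with etale self base change over the local ring of a point of the image is etale. -/
theorem etale_localization [Module.Flat A B] [Algebra.Etale B (B ⊗[A] B)] :
    Algebra.Etale (Localization.AtPrime (q.comap (algebraMap A B)))
      (Localization.AtPrime (q.comap (algebraMap A B)) ⊗[A] B) := by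
  let p := q.comap (algebraMap A B)
  let Ap := Localization.AtPrime p
  let Bp := Ap ⊗[A] B
  letI : Algebra B Bp := Algebra.TensorProduct.rightAlgebra
  haveI : IsScalarTower A B Bp :=
    IsScalarTower.of_algebraMap_eq fun a => ((Algebra.TensorProduct.includeRight (R := A) (A := Ap) (B := B)).commutes a).symm
  let Bq := Localization.AtPrime q
  have hu : ∀ y : p.primeCompl, IsUnit (Algebra.ofId A Bq y) := fun y => by
    rw [Algebra.ofId_apply, IsScalarTower.algebraMap_apply A B Bq]
    exact IsLocalization.map_units Bq (⟨algebraMap A B y, y.2⟩ : q.primeCompl)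
  let f : Ap →ₐ[A] Bq := IsLocalization.liftAlgHom (M := p.primeCompl) hu
  let h : Bp →ₐ[A] Bq := Algebra.TensorProduct.productMap f (IsScalarTower.toAlgHom A B Bq)
  let Q : Ideal Bp := (IsLocalRing.maximalIdeal Bq).comap h
  have hQle : Ideal.map (algebraMap Ap Bp) (IsLocalRing.maximalIdeal Ap) ≤ Q := by
    rw [← Localization.AtPrime.map_eq_maximalIdeal, Ideal.map_map]
    refine Ideal.map_le_iff_le_comap.2 fun a ha => ?_
    change h (algebraMap Ap Bp (algebraMap A Ap a)) ∈ IsLocalRing.maximalIdeal Bq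
    rw [← IsScalarTower.algebraMap_apply, AlgHom.commutes, IsScalarTower.algebraMap_apply A B Bq,
      ← Localization.AtPrime.map_eq_maximalIdeal]
    exact Ideal.mem_map_of_mem _ ha
  have hQ : Q ≠ ⊤ := Ideal.comap_ne_top _ (IsLocalRing.maximalIdeal.isMaximal Bq).ne_top
  haveI : Module.FaithfullyFlat Ap Bp := by
    refine ⟨fun m hm htop => hQ (top_le_iff.1 ((Eq.ge ?_).trans hQle))⟩
    rw [IsLocalRing.eq_maximalIdeal hm] at htop
    rw [Ideal.smul_top_eq_map] at htop
    exact (Submodule.restrictScalars_eq_top_iff Ap Bp Bp).1 htop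
  let e₁ : Bp ⊗[B] (B ⊗[A] B) ≃ₐ[Bp] Bp ⊗[A] B := Algebra.TensorProduct.cancelBaseChange A B Bp Bp B
  haveI : Algebra.Etale Bp (Bp ⊗[A] B) := Algebra.Etale.of_equiv (A := Bp ⊗[B] (B ⊗[A] B)) (B := Bp ⊗[A] B) e₁
  let e₂ : Bp ⊗[Ap] Bp ≃ₐ[Bp] Bp ⊗[A] B := Algebra.TensorProduct.cancelBaseChange A Ap Bp Bp B
  haveI : Algebra.Etale Bp (Bp ⊗[Ap] Bp) := Algebra.Etale.of_equiv (A := Bp ⊗[A] B) (B := Bp ⊗[Ap] Bp) e₂.symm
  exact RingHom.etale_algebraMap.1 (RingHom.CodescendsAlong.algebraMap_tensorProduct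
    (P := @RingHom.Etale) (Q := @RingHom.FaithfullyFlat) (R := Ap) (S := Bp) (T := Bp)
    RingHom.Etale.codescendsAlong_faithfullyFlat (RingHom.faithfullyFlat_algebraMap_iff.2 ‹_›)
    (RingHom.etale_algebraMap.2 ‹_›))

/-- An etale algebra with the same fibre over the local ring. -/
theorem exists_model (M : Submonoid A) (Ap : Type u) [CommRing Ap] [Algebra A Ap] [IsLocalization M Ap]
    (C : Type u) [CommRing C] [Algebra A C] [Algebra Ap C] [IsScalarTower A Ap C] [Algebra.Etale Ap C] :
    ∃ (E : Type u) (_ : CommRing E) (_ : Algebra A E), Algebra.Etale A E ∧ ∃ σ : E →ₐ[A] C,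
      (∀ x, ∃ t ∈ M, ∃ e, σ e = t • x) ∧ ∀ e, σ e = 0 → ∃ t ∈ M, t • e = 0 := by
  obtain ⟨s, hs, E, iE, aE, hE, ι, g, hι, hpo⟩ := ProEtLib2.exists_etale_model M Ap C
  letI : Algebra A E := ((algebraMap (Localization.Away s) E).comp (algebraMap A (Localization.Away s))).toAlgebra
  haveI : IsScalarTower A (Localization.Away s) E := IsScalarTower.of_algebraMap_eq fun _ => rfl
  letI : Algebra (Localization.Away s) Ap := ι.toAlgebra
  haveI : IsScalarTower A (Localization.Away s) Ap := IsScalarTower.of_algebraMap_eq fun x => congr($hι x).symm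
  letI : Algebra E C := g.toAlgebra
  letI : Algebra (Localization.Away s) C := ((algebraMap Ap C).comp ι).toAlgebra
  haveI : IsScalarTower (Localization.Away s) Ap C := IsScalarTower.of_algebraMap_eq fun _ => rfl
  haveI : IsScalarTower (Localization.Away s) E C :=
    IsScalarTower.of_algebraMap_eq fun x => congr($(hpo.w).hom x)
  have hP : Algebra.IsPushout (Localization.Away s) Ap E C := CommRingCat.isPushout_iff_isPushout.1 hpo
  haveI := hP.symm
  have hle : Submonoid.powers s ≤ M := (Submonoid.powers_le).2 hs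
  haveI : IsLocalization (Algebra.algebraMapSubmonoid (Localization.Away s) M) Ap :=
    IsLocalization.isLocalization_of_submonoid_le (Localization.Away s) Ap _ M hle
  haveI hloc : IsLocalization (Algebra.algebraMapSubmonoid E M) C := by
    have := (Algebra.isLocalization_iff_isPushout (T := E) (B := C)
      (Algebra.algebraMapSubmonoid (Localization.Away s) M) Ap).2 hP.symm
    rwa [show Algebra.algebraMapSubmonoid E (Algebra.algebraMapSubmonoid (Localization.Away s) M) =
      Algebra.algebraMapSubmonoid E M from Submonoid.map_map _ _ _] at this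
  haveI : Algebra.Etale A (Localization.Away s) := Algebra.Etale.of_isLocalizationAway s
  let σ : E →ₐ[A] C :=
    { toRingHom := g
      commutes' := fun x => by
        change g (algebraMap (Localization.Away s) E (algebraMap A _ x)) = _
        rw [IsScalarTower.algebraMap_apply A Ap C, ← hι]
        exact (congr($(hpo.w).hom (algebraMap A (Localization.Away s) x))).symm }
  refine ⟨E, iE, inferInstance, Algebra.Etale.comp A (Localization.Away s) E, σ, fun x => ?_, fun e he => ?_⟩
  · obtain ⟨⟨e, ⟨_, t, ht, rfl⟩⟩, h⟩ := IsLocalization.surj (Algebra.algebraMapSubmonoid E M) x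
    refine ⟨t, ht, e, ?_⟩
    rw [Algebra.smul_def, mul_comm, ← σ.commutes]
    exact h.symm
  · obtain ⟨⟨_, t, ht, rfl⟩, h⟩ := (IsLocalization.map_eq_zero_iff (Algebra.algebraMapSubmonoid E M) C e).1 he
    exact ⟨t, ht, (Algebra.smul_def t e).trans h⟩

end Stalk

theorem smul_eq_zero_of_algebraMap {R : Type u} [CommRing R] [Algebra A R] {L : Type u} [CommRing L] [Algebra R L]
    {M : Submonoid A} [IsLocalization (Algebra.algebraMapSubmonoid R M) L] {b : R} (h : algebraMap R L b = 0) :
    ∃ t ∈ M, t • b = 0 := by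
  obtain ⟨⟨_, t, ht, rfl⟩, h'⟩ := (IsLocalization.map_eq_zero_iff (Algebra.algebraMapSubmonoid R M) L b).1 h
  exact ⟨t, ht, (Algebra.smul_def t b).trans h'⟩

/-- Near a point of the image the algebra is etale. -/
theorem exists_etale_away [Module.Flat A B] [Algebra.Etale B (B ⊗[A] B)]
    (hinj : Function.Injective (algebraMap A B))
    (heq : ∀ b : B, b ⊗ₜ[A] (1 : B) = (1 : B) ⊗ₜ[A] b → b ∈ (algebraMap A B).range) (q : Ideal B) [q.IsPrime] :
    ∃ w : A, algebraMap A B w ∉ q ∧ Algebra.Etale A (Bw B w) := by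
  let M := (q.comap (algebraMap A B)).primeCompl
  let Ap := Localization.AtPrime (q.comap (algebraMap A B))
  let L := Ap ⊗[A] B
  haveI : Algebra.Etale Ap L := etale_localization q
  letI : Algebra B L := Algebra.TensorProduct.rightAlgebra
  haveI : IsScalarTower A B L :=
    IsScalarTower.of_algebraMap_eq fun a => ((Algebra.TensorProduct.includeRight (R := A) (A := Ap) (B := B)).commutes a).symm
  haveI : IsLocalization (Algebra.algebraMapSubmonoid B M) L := IsLocalization.tensorRight Ap M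
  obtain ⟨E, _, _, hE, σ, hσs, hσk⟩ := exists_model M Ap L
  obtain ⟨g, hg, τ, ι, hτ⟩ := exists_lift_away (B := B) M σ
  have hι : ∀ y : Bw B g, ι y = 0 → ∃ t ∈ M, t • y = 0 := fun y hy => by
    obtain ⟨⟨c, ⟨_, k, rfl⟩⟩, hc⟩ := IsLocalization.surj (Submonoid.powers (algebraMap A B g)) y
    obtain ⟨t, ht, h0⟩ := smul_eq_zero_of_algebraMap (L := L) (M := M) (b := c)
      (by rw [← ι.commutes, ← hc, map_mul, hy, zero_mul])
    refine ⟨t, ht, (IsLocalization.map_units (Bw B g) (⟨_, k, rfl⟩ : Submonoid.powers (algebraMap A B g))).mul_right_cancel ?_⟩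
    rw [zero_mul, smul_mul_assoc]
    exact (congrArg (t • ·) hc).trans ((map_smul (IsScalarTower.toAlgHom A B (Bw B g)) t c).symm.trans ((congrArg _ h0).trans (map_zero _)))
  have hτs : ∀ y : Bw B g, ∃ t ∈ M, ∃ e, τ e = t • y := fun y => by
    obtain ⟨t, ht, e, he⟩ := hσs (ι y)
    obtain ⟨t', ht', h'⟩ := hι (τ e - t • y) (by rw [map_sub, hτ, he, AlgHom.map_smul_of_tower, sub_self])
    refine ⟨t' * t, M.mul_mem ht' ht, t' • e, ?_⟩
    rw [map_smul, mul_smul, ← sub_eq_zero, ← smul_sub, h']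
  have hψs : ∀ y : B ⊗[A] Bw B g, ∃ t ∈ M, ∃ z, Algebra.TensorProduct.map (AlgHom.id B B) τ z = t • y := fun y => by
    induction y with
    | zero => exact ⟨1, M.one_mem, 0, by simp⟩
    | tmul b x =>
      obtain ⟨t, ht, e, he⟩ := hτs x
      exact ⟨t, ht, b ⊗ₜ e, by simp [he]⟩
    | add x y hx hy =>
      obtain ⟨t, ht, z, hz⟩ := hx
      obtain ⟨t', ht', z', hz'⟩ := hy
      refine ⟨t * t', M.mul_mem ht ht', t' • z + t • z', ?_⟩
      rw [map_add, AlgHom.map_smul_of_tower, AlgHom.map_smul_of_tower, hz, hz', smul_add, smul_smul, smul_smul,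
        mul_comm t' t]
  haveI := finitePresentation_tensor_Bw (B := B) g
  obtain ⟨T, hT⟩ := (inferInstance : Algebra.FiniteType B (B ⊗[A] Bw B g)).out
  choose tc htc zc hzc using hψs
  obtain ⟨G, hGdef⟩ : ∃ G, G = g * ∏ y ∈ T, tc y := ⟨_, rfl⟩
  have hG : G ∈ M := hGdef ▸ M.mul_mem hg (M.prod_mem fun y _ => htc y)
  have hgG : g ∣ G := ⟨_, hGdef⟩
  have htG : ∀ y ∈ T, tc y ∣ G := fun y hy => hGdef ▸ (Finset.dvd_prod_of_mem tc hy).mul_left g
  let E1 := Localization.Away (algebraMap A E G)
  let B1 := Bw B G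
  have hu1 : IsUnit (algebraMap B B1 (algebraMap A B g)) :=
    isUnit_of_dvd_unit (map_dvd (algebraMap B B1) (map_dvd (algebraMap A B) hgG))
      (IsLocalization.Away.algebraMap_isUnit _)
  let tr : Bw B g →ₐ[B] B1 := IsLocalization.liftAlgHom (M := Submonoid.powers (algebraMap A B g))
    (f := Algebra.ofId B B1) (by rintro ⟨_, k, rfl⟩; simpa using hu1.pow k)
  have huG : IsUnit (algebraMap A B1 G) := isUnit_algebraMap_Bw G
  let φ : E1 →ₐ[A] B1 := IsLocalization.liftAlgHom (M := Submonoid.powers (algebraMap A E G))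
    (f := (tr.restrictScalars A).comp τ) (by rintro ⟨_, k, rfl⟩; simpa using huG.pow k)
  have hφ : ∀ e, φ (algebraMap E E1 e) = tr (τ e) := fun e => IsLocalization.lift_eq _ e
  have huι : IsUnit (algebraMap B L (algebraMap A B G)) :=
    IsLocalization.map_units L (⟨_, ⟨G, hG, rfl⟩⟩ : Algebra.algebraMapSubmonoid B M)
  let ι1 : B1 →ₐ[B] L := IsLocalization.liftAlgHom (M := Submonoid.powers (algebraMap A B G))
    (f := Algebra.ofId B L) (by rintro ⟨_, k, rfl⟩; simpa using huι.pow k)
  have hι1 : ∀ y, ι1 (tr y) = ι y := fun y => congrArg (fun f : Bw B g →ₐ[B] L => f y)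
    (IsLocalization.algHom_ext (f := ι1.comp tr) (g := ι) (Submonoid.powers (algebraMap A B g))
      (AlgHom.ext fun x => (AlgHom.commutes _ x).trans (AlgHom.commutes _ x).symm))
  have hk : ∀ x : E1, φ x = 0 → ∃ t ∈ M, t • x = 0 := fun x hx => by
    obtain ⟨⟨e, ⟨_, k, rfl⟩⟩, he⟩ := IsLocalization.surj (Submonoid.powers (algebraMap A E G)) x
    have h0 : σ e = 0 := by rw [← hτ, ← hι1, ← hφ, ← he, map_mul, hx, zero_mul, map_zero]
    obtain ⟨t, ht, h⟩ := hσk e h0
    refine ⟨t, ht, (IsLocalization.map_units E1 (⟨_, k, rfl⟩ : Submonoid.powers (algebraMap A E G))).mul_right_cancel ?_⟩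
    rw [zero_mul, smul_mul_assoc]
    exact (congrArg (t • ·) he).trans ((map_smul (IsScalarTower.toAlgHom A E E1) t e).symm.trans ((congrArg _ h).trans (map_zero _)))
  haveI : Algebra.Etale E E1 := Algebra.Etale.of_isLocalizationAway (algebraMap A E G)
  haveI hE1 : Algebra.Etale A E1 := Algebra.Etale.comp A E E1
  haveI : Module.Flat B B1 := IsLocalization.flat B1 (Submonoid.powers (algebraMap A B G))
  haveI : Module.Flat A B1 := Module.Flat.trans A B B1
  haveI := finitePresentation_tensor_Bw (B := B) G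
  have hGu : IsUnit (algebraMap A E1 G) := by
    rw [IsScalarTower.algebraMap_apply A E E1]
    exact IsLocalization.Away.algebraMap_isUnit _
  let ψ := Algebra.TensorProduct.map (AlgHom.id B B) φ
  let trL := Algebra.TensorProduct.map (AlgHom.id B B) (tr.restrictScalars A)
  let αL := Algebra.TensorProduct.map (AlgHom.id B B) (IsScalarTower.toAlgHom A E E1)
  have hcomm : ∀ z, ψ (αL z) = trL (Algebra.TensorProduct.map (AlgHom.id B B) τ z) := fun z => by
    induction z with
    | zero => simp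
    | tmul b e => simp [ψ, αL, trL, hφ]
    | add x y hx hy => simp [hx, hy]
  have hT' : ∀ y, trL y ∈ ψ.range := fun y => by
    have hy : y ∈ Algebra.adjoin B (T : Set (B ⊗[A] Bw B g)) := hT ▸ Algebra.mem_top
    induction hy using Algebra.adjoin_induction with
    | mem x hx =>
      have hu : IsUnit (algebraMap A E1 (tc x)) :=
        isUnit_of_dvd_unit (map_dvd _ (htG x hx)) hGu
      refine ⟨((1 : B) ⊗ₜ[A] (↑hu.unit⁻¹ : E1)) * αL (zc x), ?_⟩
      change ψ _ = _
      rw [map_mul, hcomm, hzc, AlgHom.map_smul_of_tower, mul_smul_comm, ← smul_mul_assoc,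
        ← AlgHom.map_smul_of_tower ψ, ← TensorProduct.tmul_smul, Algebra.smul_def, IsUnit.mul_val_inv,
        ← Algebra.TensorProduct.one_def, map_one, one_mul]
    | algebraMap r => exact ⟨algebraMap B _ r, (AlgHom.commutes ψ r).trans (AlgHom.commutes trL r).symm⟩
    | add x y _ _ hx hy => rw [map_add]; exact add_mem hx hy
    | mul x y _ _ hx hy => rw [map_mul]; exact mul_mem hx hy
  have hsurj : Function.Surjective ψ := fun y => by
    suffices y ∈ ψ.range from this
    induction y with
    | zero => exact zero_mem _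
    | add x y hx hy => exact add_mem hx hy
    | tmul b x =>
      obtain ⟨⟨c, ⟨_, k, rfl⟩⟩, hc⟩ := IsLocalization.surj (Submonoid.powers (algebraMap A B G)) x
      obtain ⟨u, hu⟩ : ∃ u : E1ˣ, (u : E1) = algebraMap A E1 (G ^ k) := ⟨(hGu.pow k).unit, by simp⟩
      have hx : x = tr (algebraMap B _ c) * φ (↑u⁻¹ : E1) := by
        rw [tr.commutes, ← hc, mul_assoc]
        have : algebraMap B B1 (algebraMap A B G ^ k) * φ (↑u⁻¹ : E1) = 1 := by
          rw [← map_pow, ← IsScalarTower.algebraMap_apply A B B1, ← φ.commutes, ← hu, ← map_mul, Units.mul_inv,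
            map_one]
        exact ((congrArg (x * ·) this).trans (mul_one x)).symm
      rw [hx, show b ⊗ₜ[A] (tr (algebraMap B _ c) * φ (↑u⁻¹ : E1)) =
        trL (b ⊗ₜ[A] (algebraMap B _ c)) * ψ ((1 : B) ⊗ₜ[A] (↑u⁻¹ : E1)) by simp [trL, ψ]]
      exact mul_mem (hT' _) ⟨_, rfl⟩
  obtain ⟨s, hs, hs1, hs2⟩ := exists_smul_bijective heq hinj φ hk hsurj
  obtain ⟨H, hHdef⟩ : ∃ H, H = G * s := ⟨_, rfl⟩
  have hGH : G ∣ H := ⟨s, hHdef⟩
  have hsH : s ∣ H := ⟨G, hHdef.trans (mul_comm _ _)⟩
  let E2 := Localization.Away (algebraMap A E1 s)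
  let B2 := Bw B H
  have hu2 : IsUnit (algebraMap B B2 (algebraMap A B G)) :=
    isUnit_of_dvd_unit (map_dvd (algebraMap B B2) (map_dvd (algebraMap A B) hGH))
      (IsLocalization.Away.algebraMap_isUnit _)
  let tr2 : B1 →ₐ[B] B2 := IsLocalization.liftAlgHom (M := Submonoid.powers (algebraMap A B G))
    (f := Algebra.ofId B B2) (by rintro ⟨_, k, rfl⟩; simpa using hu2.pow k)
  have hus : IsUnit (algebraMap A B2 s) :=
    isUnit_of_dvd_unit (map_dvd _ hsH) (isUnit_algebraMap_Bw H)
  let χ : E2 →ₐ[A] B2 := IsLocalization.liftAlgHom (M := Submonoid.powers (algebraMap A E1 s))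
    (f := (tr2.restrictScalars A).comp φ) (by rintro ⟨_, k, rfl⟩; simpa using hus.pow k)
  have hχ : ∀ e, χ (algebraMap E1 E2 e) = tr2 (φ e) := fun e => IsLocalization.lift_eq _ e
  have hHu : IsUnit (algebraMap A E2 H) := by
    rw [hHdef, map_mul, IsScalarTower.algebraMap_apply A E1 E2, IsScalarTower.algebraMap_apply A E1 E2]
    exact (hGu.map _).mul (IsLocalization.Away.algebraMap_isUnit _)
  have hsu : IsUnit (algebraMap A E2 s) := isUnit_of_dvd_unit (map_dvd _ hsH) hHu
  have hinjχ : Function.Injective χ := (injective_iff_map_eq_zero χ).2 fun x hx => by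
    obtain ⟨⟨e, ⟨_, k, rfl⟩⟩, he⟩ := IsLocalization.surj (Submonoid.powers (algebraMap A E1 s)) x
    have h0 : tr2 (φ e) = 0 := by rw [← hχ, ← he, map_mul, hx, zero_mul]
    obtain ⟨⟨c, ⟨_, m, rfl⟩⟩, hc⟩ := IsLocalization.surj (Submonoid.powers (algebraMap A B G)) (φ e)
    have h1 : algebraMap B B2 c = 0 := by rw [← tr2.commutes, ← hc, map_mul, h0, zero_mul]
    obtain ⟨⟨_, j, rfl⟩, hj⟩ :=
      (IsLocalization.map_eq_zero_iff (Submonoid.powers (algebraMap A B H)) B2 c).1 h1
    have h2 : φ (H ^ j • e) = 0 := by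
      refine (IsLocalization.map_units B1 (⟨_, m, rfl⟩ : Submonoid.powers (algebraMap A B G))).mul_right_cancel ?_
      rw [map_smul, zero_mul, smul_mul_assoc]
      refine (congrArg (H ^ j • ·) hc).trans ((map_smul (IsScalarTower.toAlgHom A B B1) (H ^ j) c).symm.trans ?_)
      rw [Algebra.smul_def, map_pow]
      exact (congrArg _ hj).trans (map_zero _)
    have h3 := congrArg (algebraMap E1 E2) (hs1 _ h2)
    rw [smul_smul, map_zero, Algebra.smul_def, map_mul, ← IsScalarTower.algebraMap_apply A E1 E2] at h3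
    have hu3 : IsUnit (algebraMap A E2 (s * H ^ j)) := by
      rw [map_mul, map_pow]; exact hsu.mul (hHu.pow j)
    have h4 := hu3.mul_right_eq_zero.1 h3
    rw [← he] at h4
    exact (IsLocalization.map_units E2 (⟨_, k, rfl⟩ : Submonoid.powers (algebraMap A E1 s))).mul_left_eq_zero.1 h4
  have hsurjχ : Function.Surjective χ := fun y => by
    obtain ⟨⟨c, ⟨_, k, rfl⟩⟩, hc⟩ := IsLocalization.surj (Submonoid.powers (algebraMap A B H)) y
    obtain ⟨e, he⟩ := hs2 (algebraMap B B1 c)
    obtain ⟨u, hu⟩ : ∃ u : E2ˣ, (u : E2) = algebraMap A E2 (H ^ k * s) :=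
      ⟨((hHu.pow k).mul hsu).unit, by simp⟩
    refine ⟨algebraMap E1 E2 e * ↑u⁻¹, ?_⟩
    have h1 : χ (↑u⁻¹ : E2) * algebraMap A B2 (H ^ k * s) = 1 := by
      rw [← χ.commutes, ← hu, ← map_mul, Units.inv_mul, map_one]
    have h2 : χ (algebraMap E1 E2 e) = algebraMap A B2 (H ^ k * s) * y := by
      rw [hχ, he, AlgHom.map_smul_of_tower, tr2.commutes, Algebra.smul_def, map_mul]
      have hc' : y * algebraMap A B2 (H ^ k) = algebraMap B B2 c := by
        rw [← hc, map_pow, map_pow, IsScalarTower.algebraMap_apply A B B2]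
      rw [← hc']
      ring
    rw [map_mul, h2, mul_right_comm, mul_comm _ (χ _), h1, one_mul]
  haveI : Algebra.Etale E1 E2 := Algebra.Etale.of_isLocalizationAway (algebraMap A E1 s)
  haveI : Algebra.Etale A E2 := Algebra.Etale.comp A E1 E2
  exact ⟨H, hHdef ▸ M.mul_mem hG hs, Algebra.Etale.of_equiv (AlgEquiv.ofBijective χ ⟨hinjχ, hsurjχ⟩)⟩

/-- A flat map with trivial equalizer whose self base change is etale is etale. -/
theorem etale_of_equalizer [Module.Flat A B] [Algebra.Etale B (B ⊗[A] B)]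
    (hinj : Function.Injective (algebraMap A B))
    (heq : ∀ b : B, b ⊗ₜ[A] (1 : B) = (1 : B) ⊗ₜ[A] b → b ∈ (algebraMap A B).range) : Algebra.Etale A B := by
  let s := {b : B | ∃ w : A, algebraMap A B w = b ∧ Algebra.Etale A (Bw B w)}
  have hs : Ideal.span s = ⊤ := by
    by_contra h
    obtain ⟨q, hq, hle⟩ := Ideal.exists_le_maximal _ h
    obtain ⟨w, hw, he⟩ := exists_etale_away hinj heq q
    exact hw (hle (Ideal.subset_span ⟨w, rfl, he⟩))
  rw [← RingHom.etale_algebraMap]
  refine RingHom.Etale.ofLocalizationSpanTarget (algebraMap A B) s hs ?_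
  rintro ⟨_, w, rfl, he⟩
  rw [show (algebraMap B (Localization.Away (algebraMap A B w))).comp (algebraMap A B) =
    algebraMap A (Bw B w) from (IsScalarTower.algebraMap_eq A B _).symm, RingHom.etale_algebraMap]
  exact he

end Groth.Agent.FlatMono
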