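import Groth.Agent.FlatMono.Etale
import Groth.Agent.ASp.Affine
import Groth.Agent.ASp.OpenImm
import Groth.Agent.ASp.Glue
import Groth.Agent.ASp.EtaleCover
/-!
Flat monomorphisms of algebraic spaces are representable by schemes.
-/

set_option autoImplicit false
set_option backward.isDefEq.respectTransparency false
set_option backward.isDefEq.respectTransparency.types false

universe u

open CategoryTheory CategoryTheory.Limits AlgebraicGeometry Opposite TensorProduct

namespace Groth.Agent.FlatMono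

/-- The equalizer of the two maps to the self base change, with the etale map to the algebra. -/
theorem exists_etale_equalizer {R B : Type u} [CommRing R] [CommRing B] [Algebra R B] [Module.Flat R B]
    [Algebra.Etale B (B ⊗[R] B)] :
    ∃ (A : Type u) (_ : CommRing A) (f : R →+* A) (g : A →+* B), g.comp f = algebraMap R B ∧
      (∀ a, g a ⊗ₜ[R] (1 : B) = (1 : B) ⊗ₜ[R] g a) ∧ g.Etale := by
  let A := AlgHom.equalizer (Algebra.TensorProduct.includeLeft : B →ₐ[R] B ⊗[R] B)
    (Algebra.TensorProduct.includeRight : B →ₐ[R] B ⊗[R] B)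
  have hA : ∀ a : A, (a : B) ⊗ₜ[R] (1 : B) = (1 : B) ⊗ₜ[R] (a : B) := fun a => a.2
  refine ⟨A, inferInstance, algebraMap R A, A.val.toRingHom, rfl, hA, ?_⟩
  let μ : A ⊗[R] B →ₐ[A] B := Algebra.TensorProduct.lift (Algebra.ofId A B) (AlgHom.id R B) (fun _ _ => Commute.all _ _)
  have hμ : ∀ z : A ⊗[R] B, LinearMap.rTensor B A.val.toLinearMap z = (1 : B) ⊗ₜ[R] μ z := fun z => by
    induction z with
    | zero => simp
    | tmul a b =>
      rw [LinearMap.rTensor_tmul]
      change (a : B) ⊗ₜ[R] b = (1 : B) ⊗ₜ[R] ((a : B) * b)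
      rw [← one_mul b, ← mul_one (a : B)]
      rw [show ((a : B) * 1) ⊗ₜ[R] (1 * b) = ((a : B) ⊗ₜ[R] (1 : B)) * ((1 : B) ⊗ₜ[R] b) from
        (Algebra.TensorProduct.tmul_mul_tmul _ _ _ _).symm, hA, Algebra.TensorProduct.tmul_mul_tmul]
      simp
    | add x y hx hy => rw [map_add, map_add, hx, hy, TensorProduct.tmul_add]
  have hμb : Function.Bijective μ := by
    refine ⟨(injective_iff_map_eq_zero μ).2 fun z hz => ?_, fun b => ⟨1 ⊗ₜ b, by simp [μ]⟩⟩
    apply Module.Flat.rTensor_preserves_injective_linearMap (M := B) A.val.toLinearMap Subtype.val_injective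
    rw [hμ, hz, TensorProduct.tmul_zero, map_zero]
  haveI : Module.Flat A B := Module.Flat.of_linearEquiv (AlgEquiv.ofBijective μ hμb).symm.toLinearEquiv
  letI : Algebra A (B ⊗[R] B) := Algebra.TensorProduct.leftAlgebra
  haveI : IsScalarTower A B (B ⊗[R] B) := IsScalarTower.of_algebraMap_eq fun _ => rfl
  let i₂ : B →ₐ[A] B ⊗[R] B :=
    { toRingHom := (Algebra.TensorProduct.includeRight : B →ₐ[R] B ⊗[R] B).toRingHom
      commutes' := fun a => (hA a).symm }
  let ψ : B ⊗[A] B →ₐ[B] B ⊗[R] B := Algebra.TensorProduct.lift (Algebra.ofId B _) i₂ (fun _ _ => Commute.all _ _)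
  have hψ : ∀ b b' : B, ψ (b ⊗ₜ b') = b ⊗ₜ[R] b' := fun b b' => by
    simp [ψ, i₂]
  let χ : B ⊗[R] B →ₐ[B] B ⊗[A] B := Algebra.TensorProduct.lift (Algebra.ofId B _)
    ((Algebra.TensorProduct.includeRight : B →ₐ[A] B ⊗[A] B).restrictScalars R) (fun _ _ => Commute.all _ _)
  have hχ : ∀ b b' : B, χ (b ⊗ₜ b') = b ⊗ₜ[A] b' := fun b b' => by simp [χ]
  haveI : Algebra.Etale B (B ⊗[A] B) := Algebra.Etale.of_equiv
    (AlgEquiv.ofAlgHom χ ψ (Algebra.TensorProduct.ext (Subsingleton.elim _ _) (AlgHom.ext fun b => by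
        simp [hψ, hχ])) (Algebra.TensorProduct.ext (Subsingleton.elim _ _) (AlgHom.ext fun b => by simp [hψ, hχ])))
  have hetale : Algebra.Etale A B := etale_of_equalizer Subtype.val_injective fun b hb => by
    have := congrArg ψ hb
    rw [hψ, hψ] at this
    exact ⟨⟨b, this⟩, rfl⟩
  exact RingHom.etale_algebraMap.2 hetale

open _root_.AlgSp Groth.Agent.ASp

variable {S : Scheme.{u}}

/-- Every point of a flat monomorphism over a scheme has a scheme neighbourhood. -/
theorem exists_scheme_nhd {X : Sp S} (hX : IsAlgSpace X) {T : Over S} (x : X ⟶ (yon S).obj T) [Mono x]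
    (hfl : LocP @Flat x) (z : Points X) :
    ∃ (P : Over S) (f : (yon S).obj P ⟶ X), RepWith @IsOpenImmersion f ∧ z ∈ Set.range (Points.map f) := by
  obtain ⟨Aw, p, hpe, hps⟩ := hX.atlas
  obtain ⟨k, hk⟩ := (yon S).map_surjective (p ≫ x)
  obtain ⟨w, rfl⟩ := surjective_ofPt hps z
  obtain ⟨U, hU, hwU, -⟩ := exists_isAffineOpen_mem_and_subset (x := k.left w) (U := (⊤ : T.left.Opens)) (by simp)
  obtain ⟨E, hE, hwE, hEU⟩ := exists_isAffineOpen_mem_and_subset (x := w) (U := k.left ⁻¹ᵁ U) hwU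
  haveI hkf : Flat k.left := hfl p (𝟙 _) k hpe (repWith_id _ T) (by rw [hk, Category.comp_id])
  let φ := k.left.appLE U E hEU
  let A0 : Over S := Over.mk (hE.fromSpec ≫ Aw.hom)
  let T0 : Over S := Over.mk (hU.fromSpec ≫ T.hom)
  let eA : A0 ⟶ Aw := Over.homMk hE.fromSpec rfl
  let eT : T0 ⟶ T := Over.homMk hU.fromSpec rfl
  have hφ : Spec.map φ ≫ hU.fromSpec = hE.fromSpec ≫ k.left := IsAffineOpen.SpecMap_appLE_fromSpec _ hU hE hEU
  let k0 : A0 ⟶ T0 := Over.homMk (Spec.map φ) (by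
    change Spec.map φ ≫ hU.fromSpec ≫ T.hom = hE.fromSpec ≫ Aw.hom
    rw [reassoc_of% hφ, Over.w k])
  have hk0 : k0 ≫ eT = eA ≫ k := Over.OverMorphism.ext hφ
  haveI : Mono eT.left := inferInstanceAs (Mono hU.fromSpec)
  haveI : Mono eT := Over.mono_of_mono_left _
  let q := (yon S).map eA ≫ p
  have hqx : q ≫ x = (yon S).map (k0 ≫ eT) := by rw [hk0, Functor.map_comp, Category.assoc, hk]
  have hqe : RepWith @Etale q := repWith_comp (repWith_yon_map (inferInstanceAs (Etale hE.fromSpec))) hpe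
  obtain ⟨W, a, b, hW⟩ := exists_isPullback_yon hqe.1 q
  have hWk : IsPullback a b k0 k0 := by
    refine isPullback_of_yon_map ?_
    have h1 : IsPullback ((yon S).map a) ((yon S).map b) ((yon S).map k0 ≫ (yon S).map eT)
        ((yon S).map k0 ≫ (yon S).map eT) := by
      rw [← Functor.map_comp, ← hqx]
      exact IsPullback.of_isLimit' ⟨by rw [reassoc_of% hW.w]⟩ (PullbackCone.IsLimit.mk _
        (fun s => hW.lift s.fst s.snd ((cancel_mono x).1 (by simpa using s.condition)))
        (fun s => hW.lift_fst _ _ _) (fun s => hW.lift_snd _ _ _)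
        (fun s m e1 e2 => hW.hom_ext (by rw [e1, hW.lift_fst]) (by rw [e2, hW.lift_snd])))
    exact IsPullback.of_isLimit' ⟨(cancel_mono ((yon S).map eT)).1 (by simpa using h1.w)⟩
      (PullbackCone.IsLimit.mk _ (fun s => h1.lift s.fst s.snd (by rw [← Category.assoc, s.condition, Category.assoc]))
        (fun s => h1.lift_fst _ _ _) (fun s => h1.lift_snd _ _ _)
        (fun s m e1 e2 => h1.hom_ext (by rw [e1, h1.lift_fst]) (by rw [e2, h1.lift_snd])))
  have hbe : Etale b.left := etale_snd hqe hW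
  have hWl := isPullback_left hWk
  algebraize [φ.hom]
  haveI : Module.Flat Γ(T.left, U) Γ(Aw.left, E) := HasRingHomProperty.appLE (P := @Flat) k.left hkf ⟨U, hU⟩ ⟨E, hE⟩ hEU
  have sqS := IsPullback.of_hasPullback (Spec.map φ) (Spec.map φ)
  have hsnd : Etale (pullback.fst (Spec.map φ) (Spec.map φ)) := by
    have e : pullback.fst (Spec.map φ) (Spec.map φ) = hWl.flip.isoPullback.inv ≫ b.left :=
      hWl.flip.isoPullback_inv_fst.symm
    rw [e]
    exact (MorphismProperty.cancel_left_of_respectsIso @Etale _ _).2 hbe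
  haveI : Algebra.Etale Γ(Aw.left, E) (Γ(Aw.left, E) ⊗[Γ(T.left, U)] Γ(Aw.left, E)) := by
    rw [← RingHom.etale_algebraMap]
    have h2 : Etale (Spec.map (CommRingCat.ofHom
        (algebraMap Γ(Aw.left, E) (Γ(Aw.left, E) ⊗[Γ(T.left, U)] Γ(Aw.left, E))))) := by
      refine Eq.mpr (congrArg Etale (pullbackSpecIso_inv_fst Γ(T.left, U) Γ(Aw.left, E) Γ(Aw.left, E)).symm) ?_
      exact (MorphismProperty.cancel_left_of_respectsIso @Etale _ _).2 hsnd
    exact (HasRingHomProperty.Spec_iff (P := @Etale)).1 h2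
  obtain ⟨A1, _, f, g, hfg, hg1, hg⟩ := exists_etale_equalizer (R := Γ(T.left, U)) (B := Γ(Aw.left, E))
  let Y1 : Over S := Over.mk (Spec.map (CommRingCat.ofHom f) ≫ T0.hom)
  let j : Y1 ⟶ T0 := Over.homMk (Spec.map (CommRingCat.ofHom f)) rfl
  have hgf : Spec.map (CommRingCat.ofHom g) ≫ Spec.map (CommRingCat.ofHom f) = Spec.map φ := by
    rw [← Spec.map_comp, ← CommRingCat.ofHom_comp, hfg]
    rfl
  let π : A0 ⟶ Y1 := Over.homMk (Spec.map (CommRingCat.ofHom g)) (by
    change Spec.map (CommRingCat.ofHom g) ≫ Spec.map (CommRingCat.ofHom f) ≫ T0.hom = A0.hom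
    rw [reassoc_of% hgf]
    exact Over.w k0)
  have hπj : π ≫ j = k0 := Over.OverMorphism.ext hgf
  have hπe : Etale π.left := (HasRingHomProperty.Spec_iff (P := @Etale)).2 hg
  have hab : a ≫ π = b ≫ π := by
    refine Over.OverMorphism.ext ?_
    change a.left ≫ Spec.map (CommRingCat.ofHom g) = b.left ≫ Spec.map (CommRingCat.ofHom g)
    have h1 : a.left = hWl.isoPullback.hom ≫ pullback.fst (Spec.map φ) (Spec.map φ) := hWl.isoPullback_hom_fst.symm
    have h2 : b.left = hWl.isoPullback.hom ≫ pullback.snd (Spec.map φ) (Spec.map φ) := hWl.isoPullback_hom_snd.symm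
    refine (congrArg (· ≫ _) h1).trans (Eq.trans ?_ (congrArg (· ≫ _) h2).symm)
    simp only [Category.assoc]
    congr 1
    refine (cancel_epi (pullbackSpecIso Γ(T.left, U) Γ(Aw.left, E) Γ(Aw.left, E)).inv).1 ?_
    refine Eq.trans (Eq.trans (Category.assoc _ _ _).symm (congrArg (· ≫ Spec.map (CommRingCat.ofHom g))
      (pullbackSpecIso_inv_fst Γ(T.left, U) Γ(Aw.left, E) Γ(Aw.left, E)))) ?_
    refine Eq.trans ?_ (Eq.trans (congrArg (· ≫ Spec.map (CommRingCat.ofHom g))
      (pullbackSpecIso_inv_snd Γ(T.left, U) Γ(Aw.left, E) Γ(Aw.left, E)).symm) (Category.assoc _ _ _))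
    rw [← Spec.map_comp, ← Spec.map_comp]
    exact congrArg Spec.map (CommRingCat.hom_ext (RingHom.ext hg1))
  -- the open subspace
  let Ω : Set (Points X) := Set.range (Points.ofPt q)
  have hΩ : IsOpen Ω := (isOpenMap_ofPt_of_etale hqe).isOpen_range
  have hsub := repWith_subι X Ω hΩ
  have hXΩ := isAlgSpace_subSp hX hΩ
  haveI : Mono (subι X Ω) := mono_of_repWith (P := @IsOpenImmersion)
    (fun g hg => haveI : IsOpenImmersion g := hg; inferInstance) hsub
  obtain ⟨q', hq'⟩ := exists_lift_subι X Ω q fun v => ⟨v, rfl⟩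
  have sqq : IsPullback (𝟙 _) q' q (subι X Ω) := IsPullback.of_isLimit' ⟨by rw [Category.id_comp, hq']⟩
    (PullbackCone.IsLimit.mk _ (fun s => s.fst) (fun s => Category.comp_id _)
      (fun s => (cancel_mono (subι X Ω)).1 (by rw [Category.assoc, hq']; exact s.condition))
      (fun s m e1 e2 => by rw [← e1, Category.comp_id]))
  have hq'e : RepWith @Etale q' := repWith_of_isPullback sqq hqe
  have hq's : RepWith @Surjective q' := by
    rw [repWith_surjective_iff hq'e.1]
    intro y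
    obtain ⟨v, hv⟩ : Points.map (subι X Ω) y ∈ Ω := (range_map_subι X Ω).le ⟨y, rfl⟩
    refine ⟨Points.schemeHomeo A0 v, ?_⟩
    apply injective_map_of_repWith (P := @IsOpenImmersion)
      (fun g hg => haveI : IsOpenImmersion g := hg; g.isOpenEmbedding.injective) hsub
    rw [← Points.map_comp, hq', ← hv, ofPt_comp_eq_map]
    rfl
  haveI : Sheaf.IsLocallySurjective q' := isLocallySurjective_of_repWith
    (repWith_mono (fun _ _ g (hg : Etale g) => (inferInstance : Flat g)) hq'e)
    (repWith_mono (fun _ _ g (hg : Etale g) => (inferInstance : LocallyOfFinitePresentation g)) hq'e) hq's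
  haveI : Epi q' := (Sheaf.isLocallySurjective_iff_epi _).1 ‹_›
  have hW' : IsPullback ((yon S).map a) ((yon S).map b) q' q' :=
    IsPullback.of_isLimit' ⟨(cancel_mono (subι X Ω)).1 (by rw [Category.assoc, Category.assoc, hq', hW.w])⟩
      (PullbackCone.IsLimit.mk _ (fun s => hW.lift s.fst s.snd (by rw [← hq', reassoc_of% s.condition]))
        (fun s => hW.lift_fst _ _ _) (fun s => hW.lift_snd _ _ _)
        (fun s m e1 e2 => hW.hom_ext (by rw [e1, hW.lift_fst]) (by rw [e2, hW.lift_snd])))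
  obtain ⟨ψ, hψ⟩ := exists_desc_of_epi q' hW' ((yon S).map π)
    (by rw [← Functor.map_comp, hab, Functor.map_comp])
  haveI : Mono ψ := by
    have e : ψ ≫ (yon S).map (j ≫ eT) = subι X Ω ≫ x := by
      rw [← cancel_epi q', ← Category.assoc, hψ, ← Category.assoc, hq', hqx, ← Functor.map_comp, ← Category.assoc, hπj]
    haveI : Mono (ψ ≫ (yon S).map (j ≫ eT)) := by rw [e]; exact mono_comp _ _
    exact mono_of_mono ψ ((yon S).map (j ≫ eT))
  have hψe : LocP @Etale ψ :=
    locP_of_chart hq'e hq's (repWith_id _ Y1) (h := π) (by rw [hψ, Category.comp_id]) hπe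
  have hψo := repWith_isOpenImmersion_of_mono_etale hXΩ (IsAlgSpace.yon_obj Y1) ψ hψe
  obtain ⟨P, v, fP, hP⟩ := hψo.1 (𝟙 _)
  refine ⟨P, fP ≫ subι X Ω, repWith_comp (repWith_of_isPullback hP.flip (repWith_id _ Y1)) hsub, ?_⟩
  haveI : IsIso fP := hP.isIso_fst_of_isIso
  obtain ⟨y, hy⟩ : Points.ofPt p w ∈ Set.range (Points.map (subι X Ω)) := by
    rw [range_map_subι]
    obtain ⟨v0, hv0⟩ : w ∈ Set.range hE.fromSpec := by rw [IsAffineOpen.range_fromSpec]; exact hwE
    exact ⟨v0, by rw [ofPt_yon_map_comp]; exact congrArg _ hv0⟩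
  refine ⟨Points.map (inv fP) y, ?_⟩
  rw [Points.map_comp, ← Points.map_comp (inv fP), IsIso.inv_hom_id, Points.map_id, hy]

end Groth.Agent.FlatMono
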